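import Cfsg.Agent.Lib.TCX.RM11c.D0

set_option autoImplicit false
set_option maxRecDepth 100000
set_option Elab.async false

namespace Cfsg.Agent.TCX.RM11c

noncomputable def l0r0 : Bt Ru := (.node (.node (.node (.node (.node (.leaf ⟨[1],3,0⟩) (.leaf ⟨[2,1,2,0,0],7,2⟩)) (.node (.leaf ⟨[0,0,0,4,0,0,0,0,4],14,6⟩) (.leaf ⟨[1],3,0⟩))) (.node (.node (.leaf ⟨[0,4,1,1,1,2,4],11,1⟩) (.leaf ⟨[1],3,0⟩)) (.node (.leaf ⟨[0,3,0,0,0,3,1,3],15,0⟩) (.leaf ⟨[1],3,0⟩)))) (.node (.node (.node (.leaf ⟨[0,2,1,2,0],7,1⟩) (.leaf ⟨[1],3,0⟩)) (.node (.leaf ⟨[0,0,0,3,0,0,0,0,3,0,0,0,0,3],16,11⟩) (.leaf ⟨[1],3,0⟩))) (.node (.node (.leaf ⟨[3,1,1,1,3,1,1,3],13,1⟩) (.leaf ⟨[1],3,0⟩)) (.node (.leaf ⟨[0,4,1,1,4,2,0],12,2⟩) (.leaf ⟨[1],3,0⟩)))))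 (.node (.node (.node (.node (.leaf ⟨[2,1,1,1,2],6,1⟩) (.leaf ⟨[3,0,0,0,3,1,3,0],15,1⟩)) (.node (.leaf ⟨[3,0,0,0,0,3,0,0,0,0,3,0,0,0],16,14⟩) (.leaf ⟨[1],3,0⟩))) (.node (.node (.leaf ⟨[0,0,4,1,1,4,2],12,1⟩) (.leaf ⟨[1],3,0⟩)) (.node (.leaf ⟨[4,1,1,1,2,4,0],11,2⟩) (.leaf ⟨[1],3,0⟩)))) (.node (.node (.node (.leaf ⟨[0,0,0,0,0,0,0],10,0⟩) (.leaf ⟨[1],3,0⟩)) (.node (.leaf ⟨[3,1,3,0,0,3,0,0],15,5⟩) (.leaf ⟨[1],3,0⟩))) (.node (.node (.leaf ⟨[0,4,0,0,0,0,4,0,0],14,8⟩) (.leaf ⟨[1],3,0⟩)) (.node (.leaf ⟨[0,0,2,1,2],7,0⟩) (.leaf ⟨[1],3,0⟩))))))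
noncomputable def l0r1 : Bt Ru := (.node (.node (.node (.node (.leaf ⟨[0],1,0⟩) (.leaf ⟨[1,1,1,1,1,1,1],17,0⟩)) (.node (.leaf ⟨[1,3,1,1,3,0,3,1],13,4⟩) (.leaf ⟨[1,1,2,0,2],6,3⟩))) (.node (.node (.leaf ⟨[1,3,0,3,1,1,1,3],13,7⟩) (.leaf ⟨[3,0,3,1,1,1,3,1],13,8⟩)) (.node (.leaf ⟨[2,0,0,0,2],7,4⟩) (.leaf ⟨[1,1,3,1,1,3,0,3],13,3⟩)))) (.node (.node (.node (.leaf ⟨[2,4,0,0,4,1,1],11,6⟩) (.leaf ⟨[4,2,0,0,0,4,1],12,6⟩)) (.node (.leaf ⟨[1,2,0,2,1],6,4⟩) (.leaf ⟨[3,0,0,3,0,0,0,3],15,7⟩))) (.node (.node (.leaf ⟨[3,1,1,3,0,3,1,1],13,5⟩) (.leaf ⟨[1,4,2,0,0,0,4],12,5⟩)) (.node (.leaf ⟨[2,0,2,1,1],6,5⟩) (.leaf ⟨[0],1,0⟩)))))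
noncomputable def l0r2 : Bt Ru := (.node (.node (.node (.node (.leaf ⟨[2],2,0⟩) (.leaf ⟨[0,0,0,4,1,1,4],12,0⟩)) (.node (.leaf ⟨[0,0,0,2,1],7,5⟩) (.leaf ⟨[2],2,0⟩))) (.node (.node (.leaf ⟨[4,2,4,2,4],9,5⟩) (.leaf ⟨[2],2,0⟩)) (.node (.leaf ⟨[4,0,0,4,1,1,1],11,7⟩) (.leaf ⟨[2],2,0⟩)))) (.node (.node (.node (.leaf ⟨[0,2,1,1,1],6,0⟩) (.leaf ⟨[2],2,0⟩)) (.node (.leaf ⟨[3,2,3],4,3⟩) (.leaf ⟨[2],2,0⟩))) (.node (.node (.leaf ⟨[1,2,0,0,0],7,3⟩) (.leaf ⟨[2],2,0⟩)) (.node (.leaf ⟨[1,1,1,2,0],6,2⟩) (.leaf ⟨[2],2,0⟩)))))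
noncomputable def l0r3 : Bt Ru := (.node (.node (.node (.node (.leaf ⟨[3],0,0⟩) (.leaf ⟨[1,3,0,0,3,0,0,0],15,6⟩)) (.node (.leaf ⟨[0,0,3,0,0,0,3,1],15,8⟩) (.leaf ⟨[3],0,0⟩))) (.node (.node (.leaf ⟨[0,3,1,1,1,3,1,1],13,0⟩) (.leaf ⟨[3],0,0⟩)) (.node (.leaf ⟨[1,1,1,3,1,1,3,0],13,2⟩) (.leaf ⟨[3],0,0⟩)))) (.node (.node (.node (.leaf ⟨[2,3,2],4,0⟩) (.leaf ⟨[3],0,0⟩)) (.node (.leaf ⟨[0,0,0,3,1,3,0,0],15,2⟩) (.leaf ⟨[3],0,0⟩))) (.node (.node (.leaf ⟨[1,1,3,0,3,1,1,1],13,6⟩) (.leaf ⟨[3],0,0⟩)) (.node (.leaf ⟨[4,3,4,3,4],8,0⟩) (.leaf ⟨[3],0,0⟩)))))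
noncomputable def l0r4 : Bt Ru := (.node (.node (.node (.leaf ⟨[4],5,0⟩) (.leaf ⟨[2,0,0,0,4,1,1],12,7⟩)) (.node (.leaf ⟨[0,0,4,1,1,1,2],11,0⟩) (.leaf ⟨[2,4,2,4,2],9,0⟩))) (.node (.node (.leaf ⟨[3,4,3,4,3],8,5⟩) (.leaf ⟨[1,1,4,2,0,0,0],12,4⟩)) (.node (.leaf ⟨[1,1,1,2,4,0,0],11,3⟩) (.leaf ⟨[4],5,0⟩))))
noncomputable def l0r5 : Bt Ru := (.node (.node (.node (.node (.leaf ⟨[2,0,0,0,4,1,1,4],12,0⟩) (.leaf ⟨[1,1,1,2,4,0,0,4],11,4⟩)) (.node (.leaf ⟨[1,2,0,0,0,2],7,4⟩) (.leaf ⟨[0,1],3,0⟩))) (.node (.node (.leaf ⟨[0,0,4,1,1,1,2,4],11,1⟩) (.leaf ⟨[0,1],3,0⟩)) (.node (.leaf ⟨[4,1,1,1,2,4,0,0],11,3⟩) (.leaf ⟨[0,1],3,0⟩)))) (.node (.node (.node (.leaf ⟨[2,1,2,0,0,0],7,3⟩) (.leaf ⟨[1,1,4,2,0,0,0,4],12,5⟩)) (.node (.leaf ⟨[4,0,0,4,1,1,1,2],11,0⟩)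 (.leaf ⟨[0,1],3,0⟩))) (.node (.node (.leaf ⟨[2,1,1,1,2,0],6,2⟩) (.leaf ⟨[0,1],3,0⟩)) (.node (.leaf ⟨[1,3,1,1,3,0,3,1,1],13,5⟩) (.leaf ⟨[0,1],3,0⟩)))))
noncomputable def l0T : List (Bt Nat) := [l0t0, l0t1, l0t2, l0t3, l0t4, l0t5, l0t6]
noncomputable def l0R : List (Bt Ru) := [l0r0, l0r1, l0r2, l0r3, l0r4, l0r5]
noncomputable def l0c (a lo cnt : Nat) : Nat := chk (gT l0T (nat_lit 14)) (rT l0R) (nat_lit 14) (nat_lit 0xffc0) (nat_lit 0xc000) (nat_lit 0x3fc0) (nat_lit 5) (nat_lit 16) (nat_lit 1023) (nat_lit 0x8000000003ffffff) (nat_lit 20) (nat_lit 38) (nat_lit 0) (nat_lit 0x4000) a (nfOf [] 0 a) lo cnt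
noncomputable def l0f (a : Nat) : Nat := l0c a 0 3
noncomputable def l0m (lo cnt : Nat) : Nat := chkM (gT l0T (nat_lit 14)) (nat_lit 14) (nat_lit 0xffc0) (nat_lit 0xc000) (nat_lit 0x3fc0) (nat_lit 5) lo cnt

end Cfsg.Agent.TCX.RM11c
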